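import Cfsg.Agent.H691.AN.Defs
import Cfsg.Agent.H704.PP
import Mathlib

/-!
# S4766, pieces A4, A5, A6: degrees of the alternating groups (helper71)

From A1, A2 (the degrees of `A_n` in terms of partitions), as hypotheses `A1`, `A2`:

* `a4_of` : `n - 1`, `n (n - 3) / 2`, `(n - 1) (n - 2) / 2` are degrees of `A_n`, `7 ≤ n`;
* `a5_of` : a prime power degree is `n - 1`, `10 ≤ n`;
* `a6_of` : a degree is `1` or at least `n - 1`, `7 ≤ n`.
-/

set_option autoImplicit false
set_option linter.unusedSectionVars false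

namespace Cfsg.Agent.H71.AN

open Cfsg Cfsg.Agent.H691.AN Cfsg.Agent.H704

/-- the statement of A1 -/
def A1 : Prop := ∀ {n : ℕ}, 2 ≤ n → ∀ {l : List ℕ}, IsPart l n → ∀ {d : ℕ}, d * hookProd l = n.factorial →
    (transpose l ≠ l → d ∈ D n) ∧ (transpose l = l → ∃ e : ℕ, d = 2 * e ∧ e ∈ D n)

/-- the statement of A2 -/
def A2 : Prop := ∀ {n : ℕ}, 2 ≤ n → ∀ {d : ℕ}, d ∈ D n →
    ∃ l : List ℕ, IsPart l n ∧ ((transpose l ≠ l ∧ d * hookProd l = n.factorial) ∨
      (transpose l = l ∧ 2 * d * hookProd l = n.factorial))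

theorem headD_of_self {l : List ℕ} {n : ℕ} (hl : IsPart l n) (h : transpose l = l) : l.headD 0 = colLen l 0 := by
  have h1 : (transpose l).headD 0 = colLen l 0 := by rw [headD_eq_getD, getD_transpose hl.sorted]
  rwa [h] at h1

/-- the degree of a self-conjugate partition -/
theorem self_ge {n : ℕ} (hn : 9 ≤ n) {l : List ℕ} (hl : IsPart l n) (h : transpose l = l) {d : ℕ}
    (hd : d * hookProd l = n.factorial) : n * (n - 3) ≤ 2 * d := by
  have h1 := headD_of_self hl h
  have h2 := headD_add_colLen_le hl.pos 0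
  have h3 := hl.sum
  exact ld_all hn l d hl.sorted hl.sum hd (by omega) (by omega)

theorem self_seven {l : List ℕ} (hl : IsPart l 7) (h : transpose l = l) : 12 * hookProd l ≤ Nat.factorial 7 := by
  have := check_of_isPart (n := 7) (chk := fun l H => !(decide (transpose l = l)) ||
    decide (12 * H ≤ Nat.factorial 7)) (by decide +kernel) hl
  simpa [h] using this

theorem self_eight {l : List ℕ} (hl : IsPart l 8) (h : transpose l = l) : 14 * hookProd l ≤ Nat.factorial 8 := by
  have := check_of_isPart (n := 8) (chk := fun l H => !(decide (transpose l = l)) ||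
    decide (14 * H ≤ Nat.factorial 8)) (by decide +kernel) hl
  simpa [h] using this

theorem self_twelve {l : List ℕ} (hl : IsPart l 12) (h : transpose l = l) : 55 * hookProd l ≤ Nat.factorial 12 := by
  have := check_of_isPart (n := 12) (chk := fun l H => !(decide (transpose l = l)) ||
    decide (55 * H ≤ Nat.factorial 12)) (by decide +kernel) hl
  simpa [h] using this

theorem le_of_mul_hook {l : List ℕ} (hl : Dec l) {n c d : ℕ} (h : c * hookProd l ≤ n.factorial)
    (hd : d * hookProd l = n.factorial) : c ≤ d := by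
  rw [← hd] at h
  exact Nat.le_of_mul_le_mul_right h (hookProd_pos hl)

/-- **A6** -/
theorem a6_of (h2 : A2) {n : ℕ} (hn : 7 ≤ n) {d : ℕ} (hd : d ∈ D n) : d = 1 ∨ n - 1 ≤ d := by
  obtain ⟨l, hl, h | h⟩ := h2 (by omega) hd
  · have hdeg : IsDeg n d := ⟨l, hl, h.2⟩
    by_cases h9 : 9 ≤ n
    · rcases low_degree h9 hdeg with h3 | h3 | h3
      · exact Or.inl h3
      · right; omega
      · right
        obtain ⟨m, rfl⟩ := Nat.exists_eq_add_of_le h9
        rw [show 9 + m - 3 = m + 6 by omega] at h3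
        rw [show 9 + m - 1 = m + 8 by omega]
        nlinarith
    · obtain ⟨-, -, h7, h8, -⟩ := deg_small hdeg
      have h78 : n = 7 ∨ n = 8 := by omega
      rcases h78 with rfl | rfl
      · have h3 := h7 rfl
        simp only [List.mem_cons, List.not_mem_nil, or_false] at h3
        omega
      · have h3 := h8 rfl
        simp only [List.mem_cons, List.not_mem_nil, or_false] at h3
        omega
  · obtain ⟨hs, h⟩ := h
    right
    by_cases h9 : 9 ≤ n
    · have h3 := self_ge h9 hl hs h
      obtain ⟨m, rfl⟩ := Nat.exists_eq_add_of_le h9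
      rw [show 9 + m - 3 = m + 6 by omega] at h3
      rw [show 9 + m - 1 = m + 8 by omega]
      nlinarith
    · have h78 : n = 7 ∨ n = 8 := by omega
      rcases h78 with rfl | rfl
      · have := le_of_mul_hook hl.sorted (self_seven hl hs) h
        omega
      · have := le_of_mul_hook hl.sorted (self_eight hl hs) h
        omega

/-- **A5** -/
theorem a5_of (h2 : A2) {n : ℕ} (hn : 10 ≤ n) {p k : ℕ} (hp : p.Prime) (hk : 0 < k) (h : p ^ k ∈ D n) :
    p ^ k = n - 1 := by
  obtain ⟨l, hl, h | h⟩ := h2 (by omega) h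
  · rcases pp_theorem hn ⟨l, hl, h.2⟩ hp hk (Or.inl rfl) with h3 | ⟨rfl, h3⟩
    · exact h3
    · exfalso
      have h4 : (2 : ℕ) ∣ p ^ k := by rw [h3]; norm_num
      have h5 : (3 : ℕ) ∣ p ^ k := by rw [h3]; norm_num
      have h6 := (Nat.prime_dvd_prime_iff_eq Nat.prime_two hp).1 (Nat.prime_two.dvd_of_dvd_pow h4)
      have h7 := (Nat.prime_dvd_prime_iff_eq Nat.prime_three hp).1 (Nat.prime_three.dvd_of_dvd_pow h5)
      omega
  · obtain ⟨hs, h⟩ := h
    exfalso
    have h3 := self_ge (by omega) hl hs h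
    rcases pp_theorem hn ⟨l, hl, h⟩ hp hk (Or.inr rfl) with h4 | ⟨rfl, h4⟩
    · rw [h4] at h3
      obtain ⟨m, rfl⟩ := Nat.exists_eq_add_of_le hn
      rw [show 10 + m - 3 = m + 7 by omega, show 10 + m - 1 = m + 9 by omega] at h3
      nlinarith
    · have h5 := le_of_mul_hook hl.sorted (self_twelve hl hs) h
      omega

/-! ### A4 -/

theorem isPart_one {n : ℕ} (hn : 7 ≤ n) : IsPart [n - 1, 1] n :=
  ⟨by simp; omega, by intro a ha; simp at ha; omega, by simp; omega⟩

theorem isPart_two {n : ℕ} (hn : 7 ≤ n) : IsPart [n - 2, 2] n :=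
  ⟨by simp; omega, by intro a ha; simp at ha; omega, by simp; omega⟩

theorem isPart_three {n : ℕ} (hn : 7 ≤ n) : IsPart [n - 2, 1, 1] n :=
  ⟨by simp; omega, by intro a ha; simp at ha; omega, by simp; omega⟩

theorem deg_one_row {n d : ℕ} (hn : 7 ≤ n) (hd : d * hookProd [n - 1, 1] = n.factorial) : d = n - 1 := by
  obtain ⟨m, rfl⟩ : ∃ m, n = m + 2 := ⟨n - 2, by omega⟩
  rw [show m + 2 - 1 = m + 1 by omega] at hd ⊢
  rw [hookProd, hookProd, hookProd, rowHook_nil, rowHook_one, Nat.factorial_one, mul_one, mul_one,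
    Nat.factorial_succ, Nat.factorial_succ] at hd
  have h1 : 0 < (m + 2) * m.factorial := Nat.mul_pos (by omega) (Nat.factorial_pos m)
  apply Nat.eq_of_mul_eq_mul_right h1
  rw [hd]
  ring

theorem transpose_ne {l : List ℕ} {n : ℕ} (hl : IsPart l n) (h : l.headD 0 ≠ colLen l 0) : transpose l ≠ l :=
  fun h1 => h (headD_of_self hl h1)

/-- **A4** -/
theorem a4_of (h1 : A1) {n : ℕ} (hn : 7 ≤ n) :
    n - 1 ∈ D n ∧ n * (n - 3) / 2 ∈ D n ∧ (n - 1) * (n - 2) / 2 ∈ D n := by
  refine ⟨?_, ?_, ?_⟩
  · have hl := isPart_one hn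
    obtain ⟨d, -, hd⟩ := exists_deg hl.sorted hl.sum
    have h2 := (h1 (by omega) hl hd).1 (transpose_ne hl (by
      rw [List.headD_cons, colLen_cons, colLen_cons, colLen_nil, if_pos (by omega), if_pos (by omega)]; omega))
    rwa [deg_one_row hn hd] at h2
  · have hl := isPart_two hn
    obtain ⟨d, -, hd⟩ := exists_deg hl.sorted hl.sum
    have h2 := (h1 (by omega) hl hd).1 (transpose_ne hl (by
      rw [List.headD_cons, colLen_cons, colLen_cons, colLen_nil, if_pos (by omega), if_pos (by omega)]; omega))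
    have h3 := deg_two_row hn hl hd
    rwa [show n * (n - 3) / 2 = d by omega]
  · have hl := isPart_three hn
    obtain ⟨d, -, hd⟩ := exists_deg hl.sorted hl.sum
    have h2 := (h1 (by omega) hl hd).1 (transpose_ne hl (by
      rw [List.headD_cons, colLen_cons, colLen_cons, colLen_cons, colLen_nil, if_pos (by omega), if_pos (by omega)]
      omega))
    have h3 := deg_three_row hn hl hd
    rwa [show (n - 1) * (n - 2) / 2 = d by omega]

end Cfsg.Agent.H71.AN
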